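import Cfsg.Agent.Lib.Transfer.Fusion

/-! Redundant Sylow subgroups. -/

set_option autoImplicit false

namespace CfsgLib.Redundant

open scoped Pointwise

universe u v

variable {G : Type u} [Group G] [Finite G] {p : ℕ} [hp : Fact p.Prime]

/-- Some Sylow subgroup is covered, on its elements, by the other Sylow subgroups. -/
def HasRedundant (p : ℕ) (G : Type*) [Group G] : Prop :=
  ∃ Q : Sylow p G, ∀ x : G, (∃ k : ℕ, orderOf x = p ^ k) → ∃ P : Sylow p G, P ≠ Q ∧ x ∈ P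

theorem exists_orderOf_pow {P : Subgroup G} (hP : IsPGroup p P) {x : G} (hx : x ∈ P) :
    ∃ k : ℕ, orderOf x = p ^ k := by
  obtain ⟨j, hj⟩ := hP ⟨x, hx⟩
  obtain ⟨k, -, hk⟩ := (Nat.dvd_prime_pow hp.out).1
    (orderOf_dvd_of_pow_eq_one (show x ^ p ^ j = 1 from congrArg Subtype.val hj))
  exact ⟨k, hk⟩

theorem exists_mem_sylow {x : G} {k : ℕ} (hx : orderOf x = p ^ k) : ∃ P : Sylow p G, x ∈ P := by
  obtain ⟨P, hP⟩ := (IsPGroup.of_card (G := Subgroup.zpowers x) (n := k)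
    (by rw [Nat.card_zpowers, hx])).exists_le_sylow
  exact ⟨P, hP (Subgroup.mem_zpowers x)⟩

/-- If some element lies in a single Sylow subgroup, then none is redundant. -/
theorem not_hasRedundant_of_unique (P₀ : Sylow p G) {x : G} (hx : x ∈ P₀)
    (huniq : ∀ P : Sylow p G, x ∈ P → P = P₀) : ¬ HasRedundant p G := by
  rintro ⟨Q, hQ⟩
  obtain ⟨g, rfl⟩ := MulAction.exists_smul_eq G P₀ Q
  have hx' : g * x * g⁻¹ ∈ g • P₀ := by
    rw [CfsgLib.Transfer.mem_sylow_smul_iff]; simpa [mul_assoc] using hx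
  obtain ⟨P, hne, hP⟩ := hQ _ (exists_orderOf_pow (g • P₀).isPGroup' hx')
  refine hne ?_
  have h : x ∈ g⁻¹ • P := by
    rw [CfsgLib.Transfer.mem_sylow_smul_iff, inv_inv]; exact hP
  rw [← huniq _ h, smul_inv_smul]

theorem not_hasRedundant_of_isCyclic (P₀ : Sylow p G) [hc : IsCyclic (P₀ : Subgroup G)] :
    ¬ HasRedundant p G := by
  obtain ⟨⟨x, hx⟩, hgen⟩ := hc.exists_generator
  refine not_hasRedundant_of_unique P₀ hx fun P hP => ?_
  refine Sylow.ext (P₀.is_maximal' P.isPGroup' fun y hy => ?_)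
  obtain ⟨n, hn⟩ := hgen ⟨y, hy⟩
  have : y = x ^ n := (congrArg Subtype.val hn).symm
  rw [this]
  exact zpow_mem hP n

/-- Redundancy is unchanged by dividing out a central subgroup. -/
theorem hasRedundant_iff_of_central {H : Type v} [Group H] [Finite H] {π : G →* H}
    (hπ : Function.Surjective π) (hker : π.ker ≤ Subgroup.center G) :
    HasRedundant p H ↔ HasRedundant p G := by
  -- a `p`-element is in a Sylow subgroup as soon as its image is in the image of that subgroup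
  have key : ∀ (P : Sylow p G) (x : G), (∃ k, orderOf x = p ^ k) →
      π x ∈ P.mapSurjective hπ → x ∈ P := by
    rintro P x ⟨k, hk⟩ hx
    obtain ⟨y, hy, hxy⟩ := hx
    have hz : y⁻¹ * x ∈ Subgroup.center G :=
      hker (by rw [MonoidHom.mem_ker, map_mul, map_inv, hxy, inv_mul_cancel])
    have hxy' : x = y * (y⁻¹ * x) := (mul_inv_cancel_left y x).symm
    have hnx : x ∈ Subgroup.normalizer ((P : Subgroup G) : Set G) := by
      rw [hxy']
      exact mul_mem (Subgroup.le_normalizer hy) (Subgroup.center_le_normalizer _ hz)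
    have hpx : IsPGroup p (Subgroup.zpowers x) :=
      IsPGroup.of_card (n := k) (by rw [Nat.card_zpowers, hk])
    have := P.is_maximal' (IsPGroup.to_sup_of_normal_right' hpx P.isPGroup'
      (Subgroup.zpowers_le.2 hnx)) le_sup_right
    show x ∈ (P : Subgroup G)
    rw [← this]
    exact Subgroup.mem_sup_left (Subgroup.mem_zpowers x)
  have mapmem : ∀ (P : Sylow p G) (x : G), x ∈ P → π x ∈ P.mapSurjective hπ :=
    fun P x hx => ⟨x, hx, rfl⟩
  have inj : ∀ P Q : Sylow p G, P.mapSurjective hπ = Q.mapSurjective hπ → P = Q := by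
    intro P Q h
    refine Sylow.ext ((P.is_maximal' Q.isPGroup' fun x hx => ?_).symm)
    exact key Q x (exists_orderOf_pow P.isPGroup' hx) (h ▸ mapmem P x hx)
  constructor
  · rintro ⟨Qb, hQ⟩
    obtain ⟨Q, rfl⟩ := Sylow.mapSurjective_surjective hπ p Qb
    refine ⟨Q, fun x hx => ?_⟩
    obtain ⟨k, hk⟩ := hx
    obtain ⟨j, -, hj⟩ := (Nat.dvd_prime_pow hp.out).1 (hk ▸ orderOf_map_dvd π x)
    obtain ⟨Pb, hne, hP⟩ := hQ (π x) ⟨j, hj⟩
    obtain ⟨P, rfl⟩ := Sylow.mapSurjective_surjective hπ p Pb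
    exact ⟨P, fun h => hne (by rw [h]), key P x ⟨k, hk⟩ hP⟩
  · rintro ⟨Q, hQ⟩
    refine ⟨Q.mapSurjective hπ, fun y hy => ?_⟩
    obtain ⟨k, hk⟩ := hy
    obtain ⟨Pb, hP⟩ := exists_mem_sylow hk
    obtain ⟨P, rfl⟩ := Sylow.mapSurjective_surjective hπ p Pb
    obtain ⟨x, hx, rfl⟩ := hP
    obtain ⟨P', hne, hP'⟩ := hQ x (exists_orderOf_pow P.isPGroup' hx)
    exact ⟨P'.mapSurjective hπ, fun h => hne (inj _ _ h), mapmem P' x hP'⟩

end CfsgLib.Redundant
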