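import Cfsg.Agent.Lib.Redundant.Basic
import Cfsg.Agent.Lib.Linear.Card
import Cfsg.Agent.Lib.Linear.GL2
import Mathlib.LinearAlgebra.Vandermonde
import Mathlib.NumberTheory.Multiplicity

/-! The redundant Sylow `p`-subgroup of `GL(p, q)` for `p ∥ q - 1`. -/

set_option autoImplicit false

open Matrix
open scoped MatrixGroups Pointwise

namespace CfsgLib.Redundant.GLPrime

variable {F : Type*} [Field F] {p : ℕ}

/-- Monomial matrix along the shift by `i`. -/
def monM (d : Fin p → F) (i : Fin p) : Matrix (Fin p) (Fin p) F :=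
  fun a b => if b = a + i then d a else 0

theorem monM_mul_apply [NeZero p] (d : Fin p → F) (i : Fin p) (M : Matrix (Fin p) (Fin p) F)
    (a c : Fin p) : (monM d i * M) a c = d a * M (a + i) c := by
  simp [monM, mul_apply]

theorem mul_monM_apply [NeZero p] (d : Fin p → F) (i : Fin p) (M : Matrix (Fin p) (Fin p) F)
    (a c : Fin p) : (M * monM d i) a c = M a (c - i) * d (c - i) := by
  rw [mul_apply, Finset.sum_eq_single (c - i)]
  · simp [monM]
  · intro b _ hb
    simp only [monM]
    rw [if_neg fun h => hb (by rw [h, add_sub_cancel_right]), mul_zero]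
  · simp

theorem monM_mul [NeZero p] (d e : Fin p → F) (i j : Fin p) :
    monM d i * monM e j = monM (fun a => d a * e (a + i)) (i + j) := by
  ext a c
  rw [monM_mul_apply]
  simp only [monM, ← add_assoc]
  split <;> simp

theorem monM_one [NeZero p] : monM (fun _ => (1 : F)) (0 : Fin p) = 1 := by
  ext a c
  simp only [monM, add_zero, Matrix.one_apply]
  exact if_congr eq_comm rfl rfl

/-- The monomial element of `GL` attached to units. -/
def monG [NeZero p] (d : Fin p → Fˣ) (i : Fin p) : GL (Fin p) F where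
  val := monM (fun a => (d a : F)) i
  inv := monM (fun a => ((d (a - i))⁻¹ : Fˣ)) (-i)
  val_inv := by
    rw [monM_mul, add_neg_cancel, ← monM_one]
    congr 1
    funext a
    simp
  inv_val := by
    rw [monM_mul, neg_add_cancel, ← monM_one]
    congr 1
    funext a
    simp [sub_eq_add_neg]

theorem monG_mul [NeZero p] (d e : Fin p → Fˣ) (i j : Fin p) :
    monG d i * monG e j = monG (fun a => d a * e (a + i)) (i + j) := by
  apply Units.ext
  change monM _ i * monM _ j = monM _ _
  rw [monM_mul]
  congr 1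

theorem monG_one [NeZero p] : monG (fun _ => (1 : Fˣ)) (0 : Fin p) = 1 := by
  apply Units.ext
  change monM _ _ = 1
  rw [← monM_one]
  congr 1

theorem monG_apply_ne [NeZero p] (d : Fin p → Fˣ) (i a : Fin p) :
    (monG d i : GL (Fin p) F).1 a (a + i) = (d a : F) := by
  change monM (fun b => (d b : F)) i a (a + i) = _
  simp [monM]

theorem monG_inj [NeZero p] {d e : Fin p → Fˣ} {i j : Fin p} (h : monG d i = monG e j) :
    i = j ∧ d = e := by
  have h1 : ∀ a, (monG d i : GL (Fin p) F).1 a (a + i) = (monG e j : GL (Fin p) F).1 a (a + i) :=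
    fun a => by rw [h]
  have hij : i = j := by
    by_contra hne
    have := h1 0
    rw [monG_apply_ne] at this
    change _ = monM (fun b => (e b : F)) j 0 (0 + i) at this
    simp [monM, hne] at this
  refine ⟨hij, funext fun a => Units.ext ?_⟩
  have := h1 a
  rw [monG_apply_ne, hij, monG_apply_ne] at this
  exact this

theorem monG_pow [NeZero p] (d : Fin p → Fˣ) (i : Fin p) (k : ℕ) :
    monG d i ^ k = monG (fun a => ∏ l ∈ Finset.range k, d (a + l • i)) (k • i) := by
  induction k with
  | zero => simp [monG_one]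
  | succ k ih =>
    rw [pow_succ, ih, monG_mul, succ_nsmul]
    congr 1
    funext a
    rw [Finset.prod_range_succ]

variable [Fintype F] [hp : Fact p.Prime]

theorem nsmul_fin_eq_zero_iff {i : Fin p} (hi : i ≠ 0) (m : ℕ) :
    haveI : NeZero p := ⟨hp.out.ne_zero⟩; m • i = 0 ↔ p ∣ m := by
  haveI : NeZero p := ⟨hp.out.ne_zero⟩
  have hs : p • i = 0 := by
    simpa [Nat.card_eq_fintype_card, Fintype.card_fin] using card_nsmul_eq_zero' (x := i)
  have ho : addOrderOf i = p := addOrderOf_eq_prime hs hi
  rw [← addOrderOf_dvd_iff_nsmul_eq_zero, ho]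

theorem nsmul_bijective {i : Fin p} (hi : i ≠ 0) :
    haveI : NeZero p := ⟨hp.out.ne_zero⟩
    Function.Bijective (fun l : Fin p => (l : ℕ) • i) := by
  haveI : NeZero p := ⟨hp.out.ne_zero⟩
  refine (Fintype.bijective_iff_injective_and_card _).2 ⟨fun a b hab => ?_, rfl⟩
  simp only at hab
  apply Fin.ext
  by_contra hne
  rcases Nat.lt_or_ge (a : ℕ) b with h | h
  · have h1 : ((b : ℕ) - a) • i = 0 := by
      have := add_nsmul i ((b : ℕ) - a) a
      rw [Nat.sub_add_cancel h.le, hab] at this
      simpa using this.symm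
    rw [nsmul_fin_eq_zero_iff hi] at h1
    have := Nat.le_of_dvd (by omega) h1
    omega
  · have h1 : ((a : ℕ) - b) • i = 0 := by
      have := add_nsmul i ((a : ℕ) - b) b
      rw [Nat.sub_add_cancel h, hab] at this
      simpa using this.symm
    rw [nsmul_fin_eq_zero_iff hi] at h1
    have := Nat.le_of_dvd (by omega) h1
    omega

theorem card_mu (h1 : p ∣ Fintype.card F - 1) : Nat.card (rootsOfUnity p F) = p := by
  rw [CfsgLib.Linear.card_rootsOfUnity_finite, Nat.gcd_eq_right h1]

theorem card_GL_factorization (hp2 : p ≠ 2) (h1 : p ∣ Fintype.card F - 1)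
    (h2 : ¬ p ^ 2 ∣ Fintype.card F - 1) :
    (Nat.card (GL (Fin p) F)).factorization p = p + 1 := by
  have hq : 1 < Fintype.card F := Fintype.one_lt_card
  have hodd : Odd p := hp.out.odd_of_ne_two hp2
  set q := Fintype.card F with hqdef
  have hpq : ¬ p ∣ q := fun h => by
    have := Nat.dvd_sub h h1
    rw [Nat.sub_sub_self hq.le] at this
    exact hp.out.ne_one (Nat.dvd_one.1 this)
  have hv1 : padicValNat p (q - 1) = 1 := by
    obtain ⟨t, ht⟩ := h1
    have ht0 : t ≠ 0 := by rintro rfl; omega
    have hpt : ¬ p ∣ t := fun h => h2 (by rw [ht, pow_two]; exact Nat.mul_dvd_mul_left p h)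
    rw [ht, padicValNat.mul hp.out.ne_zero ht0, padicValNat_self,
      padicValNat.eq_zero_of_not_dvd hpt]
  have hterm : ∀ i : Fin p, (q ^ p - q ^ (i : ℕ)).factorization p = if (i : ℕ) = 0 then 2 else 1 := by
    intro i
    have hle : (i : ℕ) ≤ p := i.2.le
    have he : q ^ p - q ^ (i : ℕ) = q ^ (i : ℕ) * (q ^ (p - (i : ℕ)) - 1) := by
      rw [Nat.mul_sub, ← pow_add, Nat.add_sub_cancel' hle, mul_one]
    have hne : p - (i : ℕ) ≠ 0 := by have := i.2; omega
    have hpos : q ^ (p - (i : ℕ)) - 1 ≠ 0 := by
      have := Nat.one_lt_pow hne hq; omega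
    rw [he, Nat.factorization_mul (pow_ne_zero _ (by omega)) hpos, Finsupp.add_apply,
      Nat.factorization_eq_zero_of_not_dvd (fun h => hpq (hp.out.dvd_of_dvd_pow h)), zero_add,
      Nat.factorization_def _ hp.out]
    have h := padicValNat.pow_sub_pow (p := p) hodd hq h1 hpq hne
    rw [one_pow] at h
    rw [h, hv1]
    split_ifs with h0
    · rw [h0, Nat.sub_zero, padicValNat_self]
    · rw [padicValNat.eq_zero_of_not_dvd fun hd => by
        have := Nat.le_of_dvd (by omega) hd; omega]
  rw [CfsgLib.Linear.card_GL_fin, Nat.factorization_prod_apply (fun i _ => by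
    exact Nat.sub_ne_zero_of_lt (Nat.pow_lt_pow_right hq i.2)), Finset.sum_congr rfl fun i _ => hterm i]
  haveI : NeZero p := ⟨hp.out.ne_zero⟩
  rw [Finset.sum_eq_add_sum_sdiff_singleton_of_mem (Finset.mem_univ (0 : Fin p))]
  simp only [Fin.val_zero, if_true]
  have hs : ∀ i ∈ (Finset.univ \ {0} : Finset (Fin p)), (if (i : ℕ) = 0 then 2 else 1) = 1 :=
    fun i hi => if_neg fun h => by
      simp at hi; exact hi (Fin.ext (by simpa using h))
  rw [Finset.sum_congr rfl hs]
  simp [Finset.card_sdiff_of_subset]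
  have := hp.out.two_le
  omega

/-- `μ_p ≀ C_p`, the Sylow subgroup. -/
def wreath (p : ℕ) [NeZero p] (F : Type*) [Field F] : Subgroup (GL (Fin p) F) where
  carrier := {g | ∃ (d : Fin p → Fˣ) (i : Fin p), (∀ a, d a ^ p = 1) ∧ g = monG d i}
  one_mem' := ⟨_, 0, fun _ => one_pow p, monG_one.symm⟩
  mul_mem' := by
    rintro _ _ ⟨d, i, hd, rfl⟩ ⟨e, j, he, rfl⟩
    exact ⟨_, _, fun a => by rw [mul_pow, hd, he, mul_one], monG_mul d e i j⟩
  inv_mem' := by
    rintro _ ⟨d, i, hd, rfl⟩
    refine ⟨fun a => (d (a - i))⁻¹, -i, fun a => by rw [inv_pow, hd, inv_one], ?_⟩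
    apply Units.ext
    rfl

theorem card_wreath [NeZero p] (h1 : p ∣ Fintype.card F - 1) :
    Nat.card (wreath p F) = p ^ (p + 1) := by
  let f : (Fin p → rootsOfUnity p F) × Fin p → wreath p F := fun z =>
    ⟨monG (fun a => (z.1 a : Fˣ)) z.2, _, _, fun a => (mem_rootsOfUnity p _).1 (z.1 a).2, rfl⟩
  have hf : Function.Bijective f := by
    refine ⟨fun z w h => ?_, ?_⟩
    · obtain ⟨hi, hd⟩ := monG_inj (congrArg Subtype.val h)
      exact Prod.ext (funext fun a => Subtype.ext (congrFun hd a)) hi
    · rintro ⟨_, d, i, hd, rfl⟩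
      exact ⟨(fun a => ⟨d a, (mem_rootsOfUnity p _).2 (hd a)⟩, i), rfl⟩
  rw [← Nat.card_eq_of_bijective f hf, Nat.card_prod, Nat.card_pi, Finset.prod_const,
    Finset.card_univ, card_mu h1, Nat.card_eq_fintype_card, Fintype.card_fin, pow_succ]

/-- Elements normalizing the wreath product are monomial. -/
theorem monomial_of_normalizer [NeZero p] (hp2 : p ≠ 2) (h1 : p ∣ Fintype.card F - 1)
    {g : GL (Fin p) F} (hg : g ∈ Subgroup.normalizer (wreath p F : Set (GL (Fin p) F)))
    (a b c : Fin p) (hb : g.1 a b ≠ 0) (hc : g.1 a c ≠ 0) : b = c := by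
  classical
  have hconj : ∀ d : Fin p → rootsOfUnity p F, ∃ (e : Fin p → Fˣ) (i : Fin p),
      (∀ a, e a ^ p = 1) ∧ g * monG (fun a => (d a : Fˣ)) 0 * g⁻¹ = monG e i := fun d =>
    (Subgroup.mem_normalizer_iff.1 hg _).1 ⟨_, 0, fun a => (mem_rootsOfUnity p _).1 (d a).2, rfl⟩
  choose e sh he hce using hconj
  -- all of the conjugates are diagonal
  have hdiag : ∀ d, sh d = 0 := by
    intro d₀
    by_contra hi
    set i := sh d₀ with hidef
    have hcomm : ∀ d, monG (e d) (sh d) * monG (e d₀) i = monG (e d₀) i * monG (e d) (sh d) := by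
      intro d
      rw [← hce d, ← hce d₀]
      have : monG (fun a => (d a : Fˣ)) 0 * monG (fun a => (d₀ a : Fˣ)) 0 =
          monG (fun a => (d₀ a : Fˣ)) 0 * monG (fun a => (d a : Fˣ)) 0 := by
        rw [monG_mul, monG_mul]
        congr 1
        funext a
        rw [add_zero, mul_comm]
      calc _ = g * (monG (fun a => (d a : Fˣ)) 0 * monG (fun a => (d₀ a : Fˣ)) 0) * g⁻¹ := by group
        _ = _ := by rw [this]; group
    -- every conjugate is a scalar times a power of one of them
    have key : ∀ d : Fin p → rootsOfUnity p F, ∃ (u : rootsOfUnity p F) (k : Fin p),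
        g * monG (fun a => (d a : Fˣ)) 0 * g⁻¹ = monG (fun _ => (u : Fˣ)) 0 * monG (e d₀) i ^ (k : ℕ) := by
      intro d
      obtain ⟨k, hk⟩ := (nsmul_bijective hi).2 (sh d)
      simp only at hk
      set y := monG (e d₀) i with hy
      set z := monG (e d) (sh d) * (y ^ (k : ℕ))⁻¹ with hz
      obtain ⟨f, j, hf, hzj⟩ : z ∈ wreath p F :=
        mul_mem ⟨_, _, he d, rfl⟩ (inv_mem (pow_mem (show y ∈ wreath p F from ⟨_, _, he d₀, rfl⟩) _))
      have hzy : z * y = y * z := by
        have h1 : Commute (monG (e d) (sh d)) y := hcomm d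
        exact (h1.mul_left ((Commute.refl y).pow_left _).inv_left).eq
      have hzk : monG (e d) (sh d) = z * y ^ (k : ℕ) := by rw [hz, inv_mul_cancel_right]
      have hj : j = 0 := by
        rw [hzj, hy, monG_pow, monG_mul] at hzk
        have h2 := (monG_inj hzk).1
        rw [hk] at h2
        simpa using h2.symm
      subst hj
      rw [hzj, hy, monG_mul, monG_mul] at hzy
      have h3 : ∀ a, f a = f (a + i) := fun a => by
        have := congrFun (monG_inj hzy).2 a
        simp only [add_zero] at this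
        rw [mul_comm (e d₀ a)] at this
        exact mul_right_cancel this
      have h4 : ∀ a, f a = f 0 := by
        have hl : ∀ l : ℕ, f (l • i) = f 0 := fun l => by
          induction l with
          | zero => rw [zero_nsmul]
          | succ l ih => rw [succ_nsmul, ← h3, ih]
        intro a
        obtain ⟨l, rfl⟩ := (nsmul_bijective hi).2 a
        exact hl _
      refine ⟨⟨f 0, (mem_rootsOfUnity p _).2 (hf 0)⟩, k, ?_⟩
      rw [hce d, hzk, hzj]
      congr 2
      exact funext h4
    choose u k huk using key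
    have hinj : Function.Injective (fun d => (u d, k d)) := by
      intro d d' h
      obtain ⟨hu, hk⟩ := Prod.ext_iff.1 h
      simp only at hu hk
      have := huk d
      rw [hu, hk, ← huk d'] at this
      have := (monG_inj (mul_left_cancel (mul_right_cancel this))).2
      exact funext fun a => Subtype.ext (congrFun this a)
    have h := Nat.card_le_card_of_injective _ hinj
    rw [Nat.card_prod, Nat.card_pi, Finset.prod_const, Finset.card_univ, card_mu h1,
      Nat.card_eq_fintype_card, Fintype.card_fin, ← pow_two] at h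
    have h3 : 2 < p := lt_of_le_of_ne hp.out.two_le (Ne.symm hp2)
    exact absurd h (not_le.2 (Nat.pow_lt_pow_right hp.out.one_lt h3))
  -- a diagonal element with distinct entries
  obtain ⟨σ⟩ : Nonempty (Fin p ≃ rootsOfUnity p F) :=
    Finite.card_eq.1 (by rw [Nat.card_eq_fintype_card, Fintype.card_fin, card_mu h1])
  have h := hce σ
  rw [hdiag σ, mul_inv_eq_iff_eq_mul] at h
  have hrow : ∀ x, g.1 a x ≠ 0 → ((σ x : Fˣ) : F) = (e σ a : F) := by
    intro x hx
    have h' := congrArg (fun z : GL (Fin p) F => z.1 a x) h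
    change ((g.1 * monM (fun b => ((σ b : Fˣ) : F)) 0 : Matrix (Fin p) (Fin p) F)) a x =
      ((monM (fun b => (e σ b : F)) 0 * g.1 : Matrix (Fin p) (Fin p) F)) a x at h'
    rw [mul_monM_apply, monM_mul_apply, sub_zero, add_zero, mul_comm ((e σ a : F))] at h'
    exact mul_left_cancel₀ hx h'
  exact σ.injective (Subtype.ext (Units.ext ((hrow b hb).trans (hrow c hc).symm)))

/-- The main statement. -/
theorem hasRedundant (hp2 : p ≠ 2) (h1 : p ∣ Fintype.card F - 1)
    (h2 : ¬ p ^ 2 ∣ Fintype.card F - 1) : HasRedundant p (GL (Fin p) F) := by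
  classical
  haveI : NeZero p := ⟨hp.out.ne_zero⟩
  have h3 : 2 < p := lt_of_le_of_ne hp.out.two_le (Ne.symm hp2)
  set Q : Sylow p (GL (Fin p) F) := Sylow.ofCard (wreath p F) (by
    rw [card_GL_factorization hp2 h1 h2, card_wreath h1]) with hQ
  have hQc : (Q : Subgroup (GL (Fin p) F)) = wreath p F := Sylow.coe_ofCard _ _
  have hmemQ : ∀ g, g ∈ Q ↔ g ∈ wreath p F := fun g => by
    change g ∈ (Q : Subgroup (GL (Fin p) F)) ↔ _
    rw [hQc]
  have hone : (0 : Fin p) ≠ 1 := by
    intro h
    have := congrArg Fin.val h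
    simp [Nat.one_mod_eq_one.2 hp.out.ne_one] at this
  -- it suffices to conjugate into `Q` by something non-monomial
  have finish : ∀ (x g : GL (Fin p) F), g⁻¹ * x * g ∈ wreath p F →
      g ∉ Subgroup.normalizer (wreath p F : Set (GL (Fin p) F)) →
      ∃ P : Sylow p (GL (Fin p) F), P ≠ Q ∧ x ∈ P := by
    intro x g hx hg
    refine ⟨g • Q, fun h => hg ?_, ?_⟩
    · have := Sylow.smul_eq_iff_mem_normalizer.1 h
      change g ∈ Subgroup.normalizer ((Q : Subgroup (GL (Fin p) F)) : Set (GL (Fin p) F)) at this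
      rwa [hQc] at this
    · rw [CfsgLib.Transfer.mem_sylow_smul_iff, hmemQ]; exact hx
  -- Vandermonde element
  obtain ⟨ζ, hζ, hζ1⟩ : ∃ ζ : Fˣ, ζ ^ p = 1 ∧ orderOf ζ = p := by
    obtain ⟨z, hz⟩ := exists_prime_orderOf_dvd_card' (G := rootsOfUnity p F) p (by rw [card_mu h1])
    exact ⟨z, (mem_rootsOfUnity p _).1 z.2, by rw [Subgroup.orderOf_coe, hz]⟩
  set v : Fin p → Fˣ := fun a => ζ ^ (a : ℕ) with hv
  have hvinj : Function.Injective v := fun a b h => by
    apply Fin.ext
    have := (pow_inj_mod (x := ζ)).1 h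
    rw [hζ1, Nat.mod_eq_of_lt a.2, Nat.mod_eq_of_lt b.2] at this
    exact this
  have hvp : ∀ a, v a ^ p = 1 := fun a => by rw [hv, ← pow_mul, mul_comm, pow_mul, hζ, one_pow]
  set V : GL (Fin p) F := GeneralLinearGroup.mkOfDetNeZero
    (Matrix.vandermonde fun a => (((v a)⁻¹ : Fˣ) : F))
    (det_vandermonde_ne_zero_iff.2 fun a b h => hvinj (inv_injective (Units.ext h))) with hV
  have hVa : ∀ a c, V.1 a c = (((v a)⁻¹ : Fˣ) : F) ^ (c : ℕ) := fun a c => rfl
  have hV1 : monG v 0 * V = V * monG (fun _ => 1) 1 := by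
    apply Units.ext
    ext a c
    change ((monM (fun b => (v b : F)) 0 * V.1 : Matrix (Fin p) (Fin p) F)) a c =
      ((V.1 * monM (fun _ => ((1 : Fˣ) : F)) 1 : Matrix (Fin p) (Fin p) F)) a c
    rw [monM_mul_apply, mul_monM_apply, add_zero, hVa, hVa, Units.val_one, mul_one,
      ← Units.val_pow_eq_pow_val, ← Units.val_pow_eq_pow_val, ← Units.val_mul]
    congr 1
    have hsucc : (c : ℕ) % p = (((c - 1 : Fin p) : ℕ) + 1) % p := by
      have e : ((c - 1 + 1 : Fin p) : ℕ) = (c : ℕ) := by rw [sub_add_cancel]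
      rw [Fin.val_add, Fin.val_one', Nat.mod_eq_of_lt hp.out.one_lt] at e
      rw [e, Nat.mod_eq_of_lt c.2]
    have hw : ((v a)⁻¹) ^ p = 1 := by rw [inv_pow, hvp, inv_one]
    rw [pow_eq_pow_mod (c : ℕ) hw, hsucc, ← pow_eq_pow_mod _ hw, pow_succ', mul_inv_cancel_left]
  have hVn : V ∉ Subgroup.normalizer (wreath p F : Set (GL (Fin p) F)) := fun h =>
    hone (monomial_of_normalizer hp2 h1 h 0 0 1 (by rw [hVa]; exact pow_ne_zero _ (Units.ne_zero _))
      (by rw [hVa]; exact pow_ne_zero _ (Units.ne_zero _)))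
  refine ⟨Q, fun x hx => ?_⟩
  by_cases hxQ : x ∈ Q
  swap
  · obtain ⟨k, hk⟩ := hx
    obtain ⟨P, hP⟩ := exists_mem_sylow hk
    exact ⟨P, fun h => hxQ (h ▸ hP), hP⟩
  obtain ⟨d, i, hd, rfl⟩ := (hmemQ x).1 hxQ
  by_cases hi : i = 0
  · subst hi
    by_cases hdi : Function.Injective d
    · -- all eigenvalues: a conjugate of the shift
      have hmem : ∀ a, ∃ b, d a = v b := by
        have hsurj : Function.Surjective (fun b => (⟨v b, (mem_rootsOfUnity p _).2 (hvp b)⟩ : rootsOfUnity p F)) := by
          refine ((Nat.bijective_iff_injective_and_card _).2 ⟨fun a b h => hvinj (congrArg Subtype.val h), ?_⟩).2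
          rw [Nat.card_eq_fintype_card, Fintype.card_fin, card_mu h1]
        intro a
        obtain ⟨b, hb⟩ := hsurj ⟨d a, (mem_rootsOfUnity p _).2 (hd a)⟩
        exact ⟨b, (congrArg Subtype.val hb).symm⟩
      choose π hπ using hmem
      set W : GL (Fin p) F := GeneralLinearGroup.mkOfDetNeZero
        (Matrix.vandermonde fun a => (((d a)⁻¹ : Fˣ) : F))
        (det_vandermonde_ne_zero_iff.2 fun a b h => hdi (inv_injective (Units.ext h))) with hW
      have hWa : ∀ a c, W.1 a c = (((d a)⁻¹ : Fˣ) : F) ^ (c : ℕ) := fun a c => rfl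
      refine finish _ W ?_ fun h => hone (monomial_of_normalizer hp2 h1 h 0 0 1
        (by rw [hWa]; exact pow_ne_zero _ (Units.ne_zero _))
        (by rw [hWa]; exact pow_ne_zero _ (Units.ne_zero _)))
      refine ⟨fun _ => 1, 1, fun _ => one_pow p, ?_⟩
      rw [mul_assoc, inv_mul_eq_iff_eq_mul]
      apply Units.ext
      ext a c
      have hc := congrArg (fun z : GL (Fin p) F => z.1 (π a) c) hV1
      change ((monM (fun b => (d b : F)) 0 * W.1 : Matrix (Fin p) (Fin p) F)) a c =
        ((W.1 * monM (fun _ => ((1 : Fˣ) : F)) 1 : Matrix (Fin p) (Fin p) F)) a c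
      change ((monM (fun b => (v b : F)) 0 * V.1 : Matrix (Fin p) (Fin p) F)) (π a) c =
        ((V.1 * monM (fun _ => ((1 : Fˣ) : F)) 1 : Matrix (Fin p) (Fin p) F)) (π a) c at hc
      rw [monM_mul_apply, mul_monM_apply, add_zero, hWa, hWa, hπ]
      rw [monM_mul_apply, mul_monM_apply, add_zero, hVa, hVa] at hc
      exact hc
    · obtain ⟨a, b, hab, hne⟩ := Function.not_injective_iff.1 hdi
      set T : GL (Fin p) F := GeneralLinearGroup.mkOfDetNeZero (Matrix.transvection a b (1 : F))
        (by rw [Matrix.det_transvection_of_ne _ _ hne]; exact one_ne_zero) with hT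
      have hTa : ∀ r c, T.1 r c = (if r = c then 1 else 0) + (if r = a ∧ c = b then 1 else 0) := by
        intro r c
        change Matrix.transvection a b (1 : F) r c = _
        simp [Matrix.transvection, Matrix.single, Matrix.one_apply, eq_comm]
      refine finish _ T ?_ fun h => hne (monomial_of_normalizer hp2 h1 h a a b ?_ ?_)
      · refine ⟨d, 0, hd, ?_⟩
        rw [mul_assoc, inv_mul_eq_iff_eq_mul]
        apply Units.ext
        ext r c
        change ((monM (fun b => (d b : F)) 0 * T.1 : Matrix (Fin p) (Fin p) F)) r c =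
          ((T.1 * monM (fun b => (d b : F)) 0 : Matrix (Fin p) (Fin p) F)) r c
        rw [monM_mul_apply, mul_monM_apply, add_zero, sub_zero, hTa]
        by_cases hrc : r = c
        · subst hrc; ring
        · by_cases hrc2 : r = a ∧ c = b
          · obtain ⟨rfl, rfl⟩ := hrc2; rw [hab]; ring
          · simp [hrc, hrc2]
      · rw [hTa]; simp [hne]
      · rw [hTa]; simp [hne]
  · set s : Fˣ := ∏ l, d l with hs
    have hprod : ∀ a, ∏ l ∈ Finset.range p, d (a + l • i) = s := by
      intro a
      rw [← Fin.prod_univ_eq_prod_range (fun l => d (a + l • i)) p, hs]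
      exact Fintype.prod_bijective (fun l : Fin p => a + (l : ℕ) • i)
        ((Equiv.addLeft a).bijective.comp (nsmul_bijective hi)) _ _ fun l => rfl
    by_cases hs1 : s = 1
    · -- a diagonal conjugate of a power of the shift
      obtain ⟨κ, hκ⟩ : ∃ κ : Fin p → Fin p, ∀ a, (κ a : ℕ) • i = a :=
        ⟨_, Function.surjInv_eq (nsmul_bijective hi).2⟩
      set Pr : ℕ → Fˣ := fun k => ∏ l ∈ Finset.range k, d (l • i) with hPr
      have hper : ∀ k, Pr (k + p) = Pr k := fun k => by
        rw [hPr]
        simp only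
        rw [Finset.prod_range_add]
        simp only [add_nsmul]
        rw [hprod, hs1, mul_one]
      have hmod : ∀ k, Pr k = Pr (k % p) := fun k => by
        conv_lhs => rw [← Nat.mod_add_div k p]
        induction k / p with
        | zero => simp
        | succ n ih => rw [Nat.mul_succ, ← add_assoc, hper, ih]
      set t : Fin p → Fˣ := fun a => (Pr (κ a : ℕ))⁻¹ with ht
      have htp : ∀ a, t a ^ p = 1 := fun a => by
        rw [ht, inv_pow, hPr, ← Finset.prod_pow, Finset.prod_eq_one (fun l _ => hd _), inv_one]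
      have hstep : ∀ a, t a = d a * t (a + i) := by
        intro a
        have he : ((κ a : ℕ) + 1) % p = (κ (a + i) : ℕ) := by
          have hb := (nsmul_bijective hi).1 (a₁ := ⟨((κ a : ℕ) + 1) % p, Nat.mod_lt _ hp.out.pos⟩)
            (a₂ := κ (a + i)) (by
            simp only
            rw [hκ]
            conv_rhs => rw [← hκ a, ← succ_nsmul, ← Nat.mod_add_div ((κ a : ℕ) + 1) p,
              add_nsmul, (nsmul_fin_eq_zero_iff hi _).2 (dvd_mul_right p _), add_zero])
          exact congrArg Fin.val hb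
        have h5 : Pr (κ (a + i) : ℕ) = Pr (κ a : ℕ) * d a := by
          rw [← he, ← hmod, hPr]
          simp only
          rw [Finset.prod_range_succ, hκ]
        rw [ht]
        simp only
        rw [h5, _root_.mul_inv_rev, mul_inv_cancel_left]
      refine finish _ (monG t 0 * V⁻¹) ?_ fun h => hVn ?_
      · have hdiag : (monG t 0)⁻¹ * monG d i * monG t 0 = monG (fun _ => (1 : Fˣ)) i := by
          rw [mul_assoc, inv_mul_eq_iff_eq_mul, monG_mul, monG_mul, zero_add, add_zero]
          congr 1
          funext a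
          rw [mul_one, hstep a]
        have hpow : monG (fun _ => (1 : Fˣ)) i = monG (fun _ => (1 : Fˣ)) (1 : Fin p) ^ (i : ℕ) := by
          rw [monG_pow]
          congr 1
          · funext a; simp
          · obtain ⟨m, hm⟩ := (nsmul_bijective (Ne.symm hone)).2 i
            simp only at hm
            have : m = i := by
              have h6 : ∀ n : ℕ, n < p → ((n • (1 : Fin p) : Fin p) : ℕ) = n := fun n hn => by
                induction n with
                | zero => simp
                | succ n ih =>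
                  rw [succ_nsmul, Fin.val_add, ih (by omega), Fin.val_one', Nat.mod_eq_of_lt hp.out.one_lt,
                    Nat.mod_eq_of_lt hn]
              apply Fin.ext
              rw [← hm, h6 _ m.2]
            rw [this] at hm
            exact hm.symm
        have hVc : V * monG (fun _ => (1 : Fˣ)) i * V⁻¹ = monG v 0 ^ (i : ℕ) := by
          have h5 : SemiconjBy V (monG (fun _ => (1 : Fˣ)) (1 : Fin p)) (monG v 0) := hV1.symm
          rw [hpow, (h5.pow_right (i : ℕ)).eq, mul_inv_cancel_right]
        have h6 : (monG t 0 * V⁻¹)⁻¹ * monG d i * (monG t 0 * V⁻¹) = monG v 0 ^ (i : ℕ) := by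
          rw [← hVc, ← hdiag]; group
        rw [h6]
        exact pow_mem (show monG v 0 ∈ wreath p F from ⟨v, 0, hvp, rfl⟩) _
      · have htn : monG t 0 ∈ Subgroup.normalizer (wreath p F : Set (GL (Fin p) F)) :=
          Subgroup.le_normalizer ⟨t, 0, htp, rfl⟩
        have := mul_mem (inv_mem h) htn
        rwa [_root_.mul_inv_rev, inv_inv, inv_mul_cancel_right] at this
    · -- `1 + x` is invertible and commutes with `x`
      have hne : (1 : F) + (s : F) ≠ 0 := by
        intro h
        have h5 : (s : F) = -1 := eq_neg_of_add_eq_zero_right h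
        have hsp : (s : F) ^ p = 1 := by
          rw [← Units.val_pow_eq_pow_val, hs, ← Finset.prod_pow, Finset.prod_eq_one fun l _ => hd l,
            Units.val_one]
        rw [h5, (hp.out.odd_of_ne_two hp2).neg_one_pow] at hsp
        exact hs1 (Units.ext (by rw [h5, hsp, Units.val_one]))
      set M : Matrix (Fin p) (Fin p) F := 1 + (monG d i : GL (Fin p) F).1 with hM
      have hdet : M.det ≠ 0 := by
        intro h
        have hg := mul_neg_geom_sum (-(monG d i : GL (Fin p) F).1) p
        rw [sub_neg_eq_add, ← hM, (hp.out.odd_of_ne_two hp2).neg_pow, sub_neg_eq_add,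
          ← Units.val_pow_eq_pow_val, monG_pow] at hg
        have hpi : p • i = 0 := (nsmul_fin_eq_zero_iff hi p).2 dvd_rfl
        have hsc : (monG (fun a => ∏ l ∈ Finset.range p, d (a + l • i)) (p • i) : GL (Fin p) F).1
            = (s : F) • (1 : Matrix (Fin p) (Fin p) F) := by
          ext r c
          change monM (fun a => ((∏ l ∈ Finset.range p, d (a + l • i) : Fˣ) : F)) (p • i) r c = _
          simp [monM, hpi, hprod, Matrix.one_apply, eq_comm]
        rw [hsc] at hg
        have := congrArg Matrix.det hg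
        rw [Matrix.det_mul, h, zero_mul,
          show (1 : Matrix (Fin p) (Fin p) F) + (s : F) • 1 = (1 + (s : F)) • 1 by
            rw [add_smul, one_smul],
          Matrix.det_smul, Matrix.det_one, mul_one] at this
        exact pow_ne_zero _ hne this.symm
      refine finish _ (GeneralLinearGroup.mkOfDetNeZero M hdet) ?_ fun h => ?_
      · refine ⟨d, i, hd, ?_⟩
        rw [mul_assoc, inv_mul_eq_iff_eq_mul]
        apply Units.ext
        change (monG d i : GL (Fin p) F).1 * M = M * (monG d i : GL (Fin p) F).1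
        rw [hM, mul_add, add_mul, mul_one, one_mul]
      · have hMa : ∀ r c, M r c = (if r = c then (1 : F) else 0) + (if c = r + i then (d r : F) else 0) :=
          fun r c => by
            rw [hM, Matrix.add_apply, Matrix.one_apply]
            rfl
        have := monomial_of_normalizer hp2 h1 h 0 0 i
          (show M 0 0 ≠ 0 by rw [hMa]; simp [Ne.symm hi])
          (show M 0 i ≠ 0 by rw [hMa]; simp [Ne.symm hi])
        exact hi this.symm

end CfsgLib.Redundant.GLPrime
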