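import Cfsg.Agent.Lib.Redundant.Basic
import Cfsg.Agent.Lib.Linear.SL2
import Cfsg.Agent.Lib.Linear.Card
import Cfsg.Agent.Lib.SL2Trace.Basic

/-! Redundant Sylow subgroups of `SL₂` over a finite field. -/

set_option autoImplicit false

open Matrix
open scoped MatrixGroups Pointwise

namespace CfsgLib.Redundant

variable {F : Type*} [Field F] [Fintype F]

local notation "c₀" => Nat.card (Subgroup.centralizer
  ({CfsgLib.SL2Trace.comp (0 : F)} : Set SL(2, F)))

omit [Fintype F] in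
theorem val_mul (x y : SL(2, F)) : (x * y).1 = x.1 * y.1 := rfl

theorem four_ne_zero_of_odd (h2 : (2 : F) ≠ 0) : (0 : F) ^ 2 ≠ 4 := by
  rw [show (4 : F) = 2 * 2 by norm_num, zero_pow two_ne_zero]
  exact (mul_ne_zero h2 h2).symm

theorem trace_zero_of_sq (h2 : (2 : F) ≠ 0) {x : SL(2, F)}
    (hx : (x * x).1 = -1) : x.1.trace = 0 := by
  have h := CfsgLib.SL2Trace.mul_self_eq x
  rw [← val_mul, hx] at h
  have h' : x.1.trace • x.1 = 0 := by
    rw [eq_sub_iff_add_eq, neg_add_cancel] at h; exact h.symm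
  rcases smul_eq_zero.1 h' with h0 | h0
  · exact h0
  · exact absurd x.2 (by rw [h0]; simp)

theorem sq_eq_neg_one_of_trace {x : SL(2, F)} (hx : x.1.trace = 0) : (x * x).1 = -1 := by
  rw [val_mul, CfsgLib.SL2Trace.mul_self_eq, hx, zero_smul, zero_sub]

theorem centralizer_trace_zero (h2 : (2 : F) ≠ 0) {x : SL(2, F)} (hx : x.1.trace = 0) :
    IsCyclic (Subgroup.centralizer ({x} : Set SL(2, F))) ∧
      Nat.card (Subgroup.centralizer ({x} : Set SL(2, F))) = c₀ := by
  have h4 : x.1.trace ^ 2 ≠ 4 := by rw [hx]; exact four_ne_zero_of_odd h2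
  have ht : (CfsgLib.SL2Trace.comp (0 : F)).1.trace = 0 := by
    rw [CfsgLib.SL2Trace.coe_comp]; simp [Matrix.trace_fin_two]
  have h4' : (CfsgLib.SL2Trace.comp (0 : F)).1.trace ^ 2 ≠ 4 := by
    rw [ht]; exact four_ne_zero_of_odd h2
  obtain ⟨hc, ha, hb⟩ := CfsgLib.SL2Trace.centralizer_card_cyclic x h4
  obtain ⟨-, ha', hb'⟩ := CfsgLib.SL2Trace.centralizer_card_cyclic _ h4'
  refine ⟨hc, ?_⟩
  by_cases h : ∃ u : F, u ^ 2 - x.1.trace * u + 1 = 0
  · rw [ha h, ha' (by rw [ht]; rw [hx] at h; exact h)]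
  · rw [hb h, hb' (by rw [ht]; rw [hx] at h; exact h)]

theorem conj_eq_or_eq_inv (h2 : (2 : F) ≠ 0) {x y : SL(2, F)} (hx : x.1.trace = 0)
    (hy : y.1.trace = 0) (hc : y * x = x * y) : y = x ∨ y = x⁻¹ := by
  have hns : x.1 0 1 ≠ 0 ∨ x.1 1 0 ≠ 0 ∨ x.1 0 0 ≠ x.1 1 1 := by
    by_contra hcon
    simp only [not_or, not_not] at hcon
    obtain ⟨e1, e2, e3⟩ := hcon
    have hd := CfsgLib.Linear.SL2_det_eq x
    rw [Matrix.trace_fin_two, e3, ← two_mul] at hx
    rw [e1, e3, (mul_eq_zero.1 hx).resolve_left h2] at hd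
    simp at hd
  obtain ⟨a, b, hab⟩ := CfsgLib.Linear.exists_eq_smul_one_add_of_commute hns hc
  have hta := hy
  rw [hab, Matrix.trace_add, Matrix.trace_smul, Matrix.trace_smul, hx] at hta
  simp [h2] at hta
  rw [hta, zero_smul, zero_add] at hab
  have hb : b * b = 1 := by
    have hd : y.1.det = 1 := y.2
    rw [hab, Matrix.det_smul, x.2, mul_one, Fintype.card_fin] at hd
    rw [← pow_two]; exact hd
  rcases mul_self_eq_one_iff.1 hb with rfl | rfl
  · exact Or.inl (Subtype.ext (by rw [hab, one_smul]))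
  · refine Or.inr ?_
    apply eq_inv_of_mul_eq_one_left
    apply Subtype.ext
    rw [val_mul, hab, neg_one_smul, neg_mul, ← val_mul,
      sq_eq_neg_one_of_trace hx, neg_neg]
    rfl

theorem orderOf_trace_zero (h2 : (2 : F) ≠ 0) {x : SL(2, F)} (hx : x.1.trace = 0) :
    orderOf x = 2 ^ 2 := by
  refine orderOf_eq_prime_pow (p := 2) (n := 1) ?_ ?_
  · intro h
    have := congrArg (fun g : SL(2, F) => g.1 0 0) h
    simp only [pow_one, pow_two, sq_eq_neg_one_of_trace hx] at this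
    simp at this
    exact h2 (by linear_combination (-1 : F) * this)
  · apply Subtype.ext
    rw [show (2 ^ (1 + 1) : ℕ) = 2 * 2 by rfl, pow_mul, pow_two x, pow_two,
      val_mul, sq_eq_neg_one_of_trace hx]
    simp

theorem four_dvd_c₀ (h2 : (2 : F) ≠ 0) : 4 ∣ c₀ := by
  have hx : (CfsgLib.SL2Trace.comp (0 : F)).1.trace = 0 := by
    rw [CfsgLib.SL2Trace.coe_comp]; simp [Matrix.trace_fin_two]
  have h1 := Subgroup.orderOf_dvd_natCard (Subgroup.centralizer
    ({CfsgLib.SL2Trace.comp (0 : F)} : Set SL(2, F)))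
    (Subgroup.mem_centralizer_singleton_iff.2 rfl : CfsgLib.SL2Trace.comp (0 : F) ∈ _)
  rwa [orderOf_trace_zero h2 hx] at h1

theorem odd_card (h2 : (2 : F) ≠ 0) : Fintype.card F % 2 = 1 := by
  have : ringChar F ≠ 2 := fun h => h2 (by
    have h' := CharP.cast_eq_zero F (ringChar F)
    rw [h] at h'
    exact_mod_cast h')
  exact FiniteField.odd_card_of_char_ne_two this

theorem c₀_eq (h2 : (2 : F) ≠ 0) :
    c₀ = Fintype.card F - 1 ∨ c₀ = Fintype.card F + 1 := by
  have ht : (CfsgLib.SL2Trace.comp (0 : F)).1.trace = 0 := by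
    rw [CfsgLib.SL2Trace.coe_comp]; simp [Matrix.trace_fin_two]
  obtain ⟨-, ha, hb⟩ := CfsgLib.SL2Trace.centralizer_card_cyclic (CfsgLib.SL2Trace.comp (0 : F))
    (by rw [ht]; exact four_ne_zero_of_odd h2)
  by_cases h : ∃ u : F, u ^ 2 - (CfsgLib.SL2Trace.comp (0 : F)).1.trace * u + 1 = 0
  · exact Or.inl (ha h)
  · exact Or.inr (hb h)

/-- The order of `SL₂` is twice `c₀` times an odd number. -/
theorem card_eq_two_mul (h2 : (2 : F) ≠ 0) :
    ∃ r : ℕ, ¬ 2 ∣ r ∧ Nat.card SL(2, F) = 2 * c₀ * r := by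
  have h4 := four_dvd_c₀ (F := F) h2
  have hq := odd_card (F := F) h2
  have hq2 : Fintype.card F ^ 2 - 1 = (Fintype.card F + 1) * (Fintype.card F - 1) := by
    simpa using Nat.sq_sub_sq (Fintype.card F) 1
  rw [CfsgLib.Linear.card_SL_two, hq2]
  rcases c₀_eq (F := F) h2 with h | h
  · obtain ⟨t, ht⟩ : 2 ∣ Fintype.card F + 1 := by omega
    refine ⟨Fintype.card F * t, ?_, by rw [h, ht]; ring⟩
    intro hd
    rcases Nat.prime_two.dvd_mul.1 hd with h' | h'
    · omega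
    · obtain ⟨u, rfl⟩ := h'
      rw [h] at h4; omega
  · obtain ⟨t, ht⟩ : 2 ∣ Fintype.card F - 1 := by omega
    refine ⟨Fintype.card F * t, ?_, by rw [h, ht]; ring⟩
    intro hd
    rcases Nat.prime_two.dvd_mul.1 hd with h' | h'
    · omega
    · obtain ⟨u, rfl⟩ := h'
      rw [h] at h4; omega

theorem c₀_pow_two_iff (h2 : (2 : F) ≠ 0) :
    (∃ k, c₀ = 2 ^ k) ↔
      (∃ k : ℕ, Fintype.card F + 1 = 2 ^ k) ∨ ∃ k : ℕ, Fintype.card F = 2 ^ k + 1 := by
  have h4 := four_dvd_c₀ (F := F) h2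
  have hq := odd_card (F := F) h2
  have hq1 : 1 < Fintype.card F := Fintype.one_lt_card
  constructor
  · rintro ⟨k, hk⟩
    rcases c₀_eq (F := F) h2 with h | h
    · exact Or.inr ⟨k, by omega⟩
    · exact Or.inl ⟨k, by omega⟩
  · intro hor
    rcases hor with ⟨k, hk⟩ | ⟨k, hk⟩ <;> rcases c₀_eq (F := F) h2 with h | h
    · exfalso
      rw [h] at h4
      obtain ⟨k, rfl⟩ : ∃ j, k = j + 2 := by
        refine ⟨k - 2, ?_⟩
        rcases k with _ | _ | k <;> simp at hk ⊢ <;> omega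
      rw [pow_add] at hk; omega
    · exact ⟨k, by omega⟩
    · exact ⟨k, by omega⟩
    · rw [h] at h4
      rcases k with _ | _ | k
      · simp at hk; omega
      · exact ⟨2, by rw [h]; simp at hk ⊢; omega⟩
      · exfalso
        rw [pow_succ, pow_succ] at hk; omega

theorem card_sylow_two (h2 : (2 : F) ≠ 0) (P : Sylow 2 SL(2, F)) :
    ∃ a : ℕ, Nat.card P = 2 ^ a ∧ (∀ b : ℕ, 2 ^ b ∣ c₀ → b < a) ∧
      ((∃ k, c₀ = 2 ^ k) → Nat.card P = 2 * c₀) := by
  obtain ⟨r, hr, hG⟩ := card_eq_two_mul (F := F) h2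
  obtain ⟨a, ha⟩ := IsPGroup.iff_card.1 P.isPGroup'
  refine ⟨a, ha, fun b hb => ?_, ?_⟩
  · have h : 2 ^ (b + 1) ∣ Nat.card SL(2, F) := by
      rw [hG, pow_succ']; exact (Nat.mul_dvd_mul_left 2 hb).mul_right r
    have := (Nat.Prime.pow_dvd_iff_le_factorization Nat.prime_two Nat.card_pos.ne').1 h
    have h' := P.card_eq_multiplicity
    rw [ha] at h'
    have := Nat.pow_right_injective le_rfl h'
    omega
  · rintro ⟨k, hk⟩
    rw [hk, ← pow_succ'] at hG ⊢
    exact CfsgLib.Linear.card_sylow_of_card_eq hG hr P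

theorem exists_trace_zero (h2 : (2 : F) ≠ 0) (P : Sylow 2 SL(2, F)) :
    ∃ x ∈ P, x.1.trace = 0 := by
  have ht : (CfsgLib.SL2Trace.comp (0 : F)).1.trace = 0 := by
    rw [CfsgLib.SL2Trace.coe_comp]; simp [Matrix.trace_fin_two]
  obtain ⟨P₀, hP₀⟩ := exists_mem_sylow (p := 2) (orderOf_trace_zero h2 ht)
  obtain ⟨g, rfl⟩ := MulAction.exists_smul_eq SL(2, F) P₀ P
  refine ⟨g * CfsgLib.SL2Trace.comp 0 * g⁻¹, ?_, ?_⟩
  · rw [CfsgLib.Transfer.mem_sylow_smul_iff]; simpa [mul_assoc] using hP₀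
  · rw [CfsgLib.SL2Trace.trace_mul_mul_inv, ht]

theorem not_hasRedundant_of_pow (h2 : (2 : F) ≠ 0) (hk : ∃ k, c₀ = 2 ^ k) :
    ¬ HasRedundant 2 SL(2, F) := by
  set w := CfsgLib.SL2Trace.comp (0 : F) with hw
  set C := Subgroup.centralizer ({w} : Set SL(2, F)) with hC
  have ht : w.1.trace = 0 := by
    rw [hw, CfsgLib.SL2Trace.coe_comp]; simp [Matrix.trace_fin_two]
  obtain ⟨hcyc, -⟩ := centralizer_trace_zero h2 ht
  obtain ⟨k, hk'⟩ := hk
  obtain ⟨P₀, hP₀⟩ := (IsPGroup.of_card (G := C) (n := k) hk').exists_le_sylow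
  obtain ⟨⟨g, hg⟩, hgen⟩ := hcyc.exists_generator
  refine not_hasRedundant_of_unique P₀ (hP₀ hg) fun P hP => ?_
  have hle : ∀ P : Sylow 2 SL(2, F), g ∈ P → C ≤ P := by
    intro P hP y hy
    obtain ⟨n, hn⟩ := hgen ⟨y, hy⟩
    have : y = g ^ n := (congrArg Subtype.val hn).symm
    rw [this]; exact zpow_mem hP n
  have hwC : w ∈ C := Subgroup.mem_centralizer_singleton_iff.2 rfl
  -- every element of a Sylow subgroup over `C` maps `w` to `w` or its inverse
  have hnorm : ∀ P : Sylow 2 SL(2, F), g ∈ P → ∀ y ∈ P, y * w * y⁻¹ = w ∨ y * w * y⁻¹ = w⁻¹ := by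
    intro P hP y hy
    have hidx : C.relIndex (P : Subgroup SL(2, F)) = 2 := by
      obtain ⟨a, -, -, h⟩ := card_sylow_two h2 P
      have h1 := Subgroup.relIndex_mul_relIndex _ _ _ (bot_le (a := C)) (hle P hP)
      rw [Subgroup.relIndex_bot_left, Subgroup.relIndex_bot_left, h ⟨k, hk'⟩, mul_comm 2] at h1
      exact Nat.eq_of_mul_eq_mul_left Nat.card_pos h1
    have hn : (C.subgroupOf (P : Subgroup SL(2, F))).Normal :=
      Subgroup.normal_of_index_eq_two hidx
    have hm := Subgroup.mem_subgroupOf.1 (hn.conj_mem ⟨w, hle P hP hwC⟩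
      (Subgroup.mem_subgroupOf.2 hwC) ⟨y, hy⟩)
    refine conj_eq_or_eq_inv h2 ht (by rw [CfsgLib.SL2Trace.trace_mul_mul_inv, ht]) ?_
    exact Subgroup.mem_centralizer_singleton_iff.1 hm
  have hgP₀ := hP₀ hg
  by_cases hall : ∀ y ∈ P₀, y * w * y⁻¹ = w
  · exfalso
    obtain ⟨a, ha, hb, h⟩ := card_sylow_two h2 P₀
    have hP0C : (P₀ : Subgroup SL(2, F)) ≤ C := fun y hy => by
      rw [hC, Subgroup.mem_centralizer_singleton_iff]
      exact mul_inv_eq_iff_eq_mul.1 (hall y hy)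
    have := Subgroup.card_le_of_le hP0C
    rw [h ⟨k, hk'⟩] at this
    have e1 : Nat.card C = 2 ^ k := hk'
    have e2 : c₀ = 2 ^ k := hk'
    have := Nat.two_pow_pos k
    omega
  simp only [not_forall, exists_prop] at hall
  obtain ⟨y₀, hy₀, hy₀w⟩ := hall
  have hinv₀ := (hnorm P₀ hgP₀ y₀ hy₀).resolve_left hy₀w
  refine Sylow.ext ((P.is_maximal' P₀.isPGroup' fun y hy => ?_).symm)
  rcases hnorm P hP y hy with h | h
  · exact hP₀ (Subgroup.mem_centralizer_singleton_iff.2 (mul_inv_eq_iff_eq_mul.1 h))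
  · have hyC : y₀⁻¹ * y ∈ C := by
      rw [hC, Subgroup.mem_centralizer_singleton_iff]
      have he : y * w = y₀ * w * y₀⁻¹ * y := by rw [hinv₀, ← h, inv_mul_cancel_right]
      rw [mul_assoc, he]; group
    have := mul_mem hy₀ (hP₀ hyC)
    rwa [mul_inv_cancel_left] at this

theorem hasRedundant_of_not_pow (h2 : (2 : F) ≠ 0) (hk : ¬ ∃ k, c₀ = 2 ^ k) :
    HasRedundant 2 SL(2, F) := by
  obtain ⟨r, hr, hrd, hr2⟩ : ∃ r : ℕ, r.Prime ∧ r ∣ c₀ ∧ r ≠ 2 := by
    by_contra hc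
    exact hk ⟨_, Nat.eq_prime_pow_of_unique_prime_dvd Nat.card_pos.ne' fun {d} hd hdvd =>
      by_contra fun hne => hc ⟨d, hd, hdvd, hne⟩⟩
  have : Fact r.Prime := ⟨hr⟩
  obtain ⟨Q⟩ : Nonempty (Sylow 2 SL(2, F)) := inferInstance
  have hZ : ∀ u : SL(2, F), u ∈ Subgroup.center SL(2, F) → u ∈ Q ∧ u * u = 1 := by
    intro u hu
    have hu1 : u * u = 1 := by
      obtain ⟨e1, e2, e3⟩ := CfsgLib.SL2Trace.mem_center_iff_entries.1 hu
      have hd := CfsgLib.Linear.SL2_det_eq u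
      rw [e1, zero_mul, sub_zero, ← e3] at hd
      apply Subtype.ext
      ext i j
      fin_cases i <;> fin_cases j <;> simp [mul_apply, Fin.sum_univ_two, e1, e2, ← e3, hd]
    refine ⟨?_, hu1⟩
    have hp : IsPGroup 2 (Subgroup.zpowers u) := by
      obtain ⟨k, -, hk⟩ := (Nat.dvd_prime_pow Nat.prime_two).1
        (orderOf_dvd_of_pow_eq_one (show u ^ (2 ^ 1) = 1 by rw [pow_one, pow_two, hu1]))
      exact IsPGroup.of_card (n := k) (by rw [Nat.card_zpowers, hk])
    have hn : (Subgroup.zpowers u) ≤ Subgroup.normalizer ((Q : Subgroup SL(2, F)) : Set SL(2, F)) :=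
      (Subgroup.zpowers_le.2 hu).trans (Subgroup.center_le_normalizer _)
    have := Q.is_maximal' (IsPGroup.to_sup_of_normal_right' hp Q.isPGroup' hn) le_sup_right
    show u ∈ (Q : Subgroup SL(2, F))
    rw [← this]
    exact Subgroup.mem_sup_left (Subgroup.mem_zpowers u)
  -- for `x` of trace zero in `Q`, a centralizing element outside the normalizer of `Q`
  have key : ∀ x ∈ Q, x.1.trace = 0 →
      ∃ t : SL(2, F), t * x = x * t ∧ t • Q ≠ Q := by
    intro x hxQ hx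
    obtain ⟨hcyc, hcard⟩ := centralizer_trace_zero h2 hx
    set C := Subgroup.centralizer ({x} : Set SL(2, F)) with hC
    obtain ⟨⟨t, htC⟩, ht⟩ := exists_prime_orderOf_dvd_card' (G := C) r (hcard ▸ hrd)
    rw [← Subgroup.orderOf_coe] at ht
    refine ⟨t, Subgroup.mem_centralizer_singleton_iff.1 htC, fun htQ => ?_⟩
    -- an element of `Q` inverting `x`
    obtain ⟨y, hy, hyx⟩ : ∃ y ∈ Q, y * x * y⁻¹ = x⁻¹ := by
      set A := C.subgroupOf (Q : Subgroup SL(2, F)) with hA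
      have hA' : A < ⊤ := by
        rw [lt_top_iff_ne_top, Ne, hA, Subgroup.subgroupOf_eq_top]
        intro hle
        obtain ⟨a, ha, hb, -⟩ := card_sylow_two h2 Q
        have := hb a (by rw [← ha, ← hcard]; exact Subgroup.card_dvd_of_le hle)
        omega
      haveI : Group.IsNilpotent (Q : Subgroup SL(2, F)) := Q.isPGroup'.isNilpotent
      obtain ⟨⟨y, hy⟩, hyN, hyA⟩ := SetLike.exists_of_lt
        (Group.normalizerCondition_of_isNilpotent (G := (Q : Subgroup SL(2, F))) A hA')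
      have hm := Subgroup.mem_subgroupOf.1 ((Subgroup.mem_normalizer_iff.1 hyN ⟨x, hxQ⟩).1
        (Subgroup.mem_subgroupOf.2 (Subgroup.mem_centralizer_singleton_iff.2 rfl : x ∈ C)))
      rcases conj_eq_or_eq_inv h2 hx (by
          rw [show ((⟨y, hy⟩ : (Q : Subgroup SL(2, F))) * ⟨x, hxQ⟩ * ⟨y, hy⟩⁻¹ : (Q : Subgroup SL(2, F))).1
            = y * x * y⁻¹ from rfl, CfsgLib.SL2Trace.trace_mul_mul_inv, hx])
          (Subgroup.mem_centralizer_singleton_iff.1 hm) with h | h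
      · exact absurd (Subgroup.mem_subgroupOf.2
          (Subgroup.mem_centralizer_singleton_iff.2 (mul_inv_eq_iff_eq_mul.1 h) : y ∈ C)) hyA
      · exact ⟨y, hy, h⟩
    set u := t * (y * t * y⁻¹) with hu
    have hns : x.1 0 1 ≠ 0 ∨ x.1 1 0 ≠ 0 ∨ x.1 0 0 ≠ x.1 1 1 := by
      by_contra hcon
      simp only [not_or, not_not] at hcon
      obtain ⟨e1, e2, e3⟩ := hcon
      have hd := CfsgLib.Linear.SL2_det_eq x
      rw [Matrix.trace_fin_two, e3, ← two_mul] at hx
      rw [e1, e3, (mul_eq_zero.1 hx).resolve_left h2] at hd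
      simp at hd
    obtain ⟨a, b, hab⟩ := CfsgLib.Linear.exists_eq_smul_one_add_of_commute hns
      (Subgroup.mem_centralizer_singleton_iff.1 htC)
    have hxx := sq_eq_neg_one_of_trace hx
    rw [val_mul] at hxx
    have hxinv : (x⁻¹).1 = - x.1 := by
      have : (x⁻¹).1 * x.1 = 1 := by rw [← val_mul, inv_mul_cancel]; rfl
      calc (x⁻¹).1 = - ((x⁻¹).1 * (x.1 * x.1)) := by rw [hxx, mul_neg, mul_one, neg_neg]
        _ = - x.1 := by rw [← mul_assoc, this, one_mul]
    have hyy : y.1 * (y⁻¹).1 = 1 := by rw [← val_mul, mul_inv_cancel]; rfl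
    have hconj : (y * t * y⁻¹).1 = a • 1 - b • x.1 := by
      rw [val_mul, val_mul, hab, mul_add, add_mul,
        Matrix.mul_smul, Matrix.smul_mul, mul_one, hyy, Matrix.mul_smul, Matrix.smul_mul,
        ← val_mul, ← val_mul, hyx, hxinv, smul_neg, sub_eq_add_neg]
    have huZ : u ∈ Subgroup.center SL(2, F) := by
      refine CfsgLib.SL2Trace.mem_center_of_scalar (a ^ 2 + b ^ 2) ?_
      rw [hu, val_mul, hconj, hab, add_mul, mul_sub, mul_sub]
      simp only [Matrix.smul_mul, Matrix.mul_smul, one_mul, mul_one, smul_smul, hxx, smul_neg]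
      rw [Matrix.scalar_apply, ← Matrix.smul_one_eq_diagonal]
      module
    obtain ⟨huQ, -⟩ := hZ u huZ
    have htn : t ∈ Subgroup.normalizer ((Q : Subgroup SL(2, F)) : Set SL(2, F)) :=
      Sylow.smul_eq_iff_mem_normalizer.1 htQ
    have hc : t * y * t⁻¹ * y⁻¹ ∈ (Q : Subgroup SL(2, F)) :=
      mul_mem ((Subgroup.mem_normalizer_iff.1 htn y).1 hy) (inv_mem hy)
    have hsq : t * y * t⁻¹ * y⁻¹ * u = t * t := by
      have hcu := Subgroup.mem_center_iff.1 huZ (t * y * t⁻¹ * y⁻¹)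
      rw [hcu, hu]
      have hcomm : t * (y * t * y⁻¹) = (y * t * y⁻¹) * t := by
        apply Subtype.ext
        rw [val_mul t, val_mul _ t, hconj, hab]
        simp only [add_mul, mul_add, sub_mul, mul_sub, Matrix.smul_mul, Matrix.mul_smul, one_mul,
          mul_one, smul_smul]
        module
      calc t * (y * t * y⁻¹) * (t * y * t⁻¹ * y⁻¹)
          = (t * (y * t * y⁻¹)) * t * (y * t⁻¹ * y⁻¹) := by group
        _ = t * ((y * t * y⁻¹) * t) * (y * t⁻¹ * y⁻¹) := by group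
        _ = t * (t * (y * t * y⁻¹)) * (y * t⁻¹ * y⁻¹) := by rw [hcomm]
        _ = t * t := by group
    have htt : t * t ∈ (Q : Subgroup SL(2, F)) := hsq ▸ mul_mem hc huQ
    obtain ⟨j, hj⟩ := exists_orderOf_pow Q.isPGroup' htt
    have hco : Nat.Coprime (orderOf t) 2 := by rw [ht]; exact (Nat.coprime_primes hr Nat.prime_two).2 hr2
    rw [← pow_two, (hco : Nat.Coprime (orderOf t) 2).orderOf_pow, ht] at hj
    exact hr2 ((Nat.prime_dvd_prime_iff_eq hr Nat.prime_two).1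
      (hr.dvd_of_dvd_pow (dvd_of_eq hj)))
  -- conclusion
  refine ⟨Q, fun x hx => ?_⟩
  by_cases hxQ : x ∈ Q
  swap
  · obtain ⟨k, hk⟩ := hx
    obtain ⟨P, hP⟩ := exists_mem_sylow hk
    exact ⟨P, fun h => hxQ (h ▸ hP), hP⟩
  obtain ⟨t, htx, htQ⟩ : ∃ t : SL(2, F), t * x = x * t ∧ t • Q ≠ Q := by
    by_cases hxc : x * x = 1
    · have hc : x ∈ Subgroup.center SL(2, F) := CfsgLib.SL2Trace.mem_center_of_sq_eq_one h2 hxc
      obtain ⟨x₀, hx₀, hx₀t⟩ := exists_trace_zero h2 Q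
      obtain ⟨t, -, ht⟩ := key x₀ hx₀ hx₀t
      exact ⟨t, Subgroup.mem_center_iff.1 hc t, ht⟩
    · obtain ⟨k, hk⟩ := hx
      obtain ⟨j, rfl⟩ : ∃ j, k = j + 2 := by
        refine ⟨k - 2, ?_⟩
        rcases k with _ | _ | k
        · rw [pow_zero, orderOf_eq_one_iff] at hk; exact absurd (by rw [hk, one_mul]) hxc
        · rw [pow_one] at hk; exact absurd (by have := pow_orderOf_eq_one x; rwa [hk, pow_two] at this) hxc
        · omega
      set x4 := x ^ 2 ^ j with hx4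
      have ho : orderOf x4 = 4 := by
        rw [hx4, orderOf_pow_of_dvd (pow_ne_zero _ two_ne_zero) (hk ▸ pow_dvd_pow 2 (Nat.le_add_right j 2)),
          hk, pow_add, Nat.mul_div_cancel_left _ (pow_pos two_pos j)]
        rfl
      have hsq : x4 * x4 ≠ 1 := fun h => by
        have := orderOf_dvd_of_pow_eq_one (show x4 ^ 2 = 1 by rw [pow_two, h])
        rw [ho] at this; norm_num at this
      have hsq2 : (x4 * x4) * (x4 * x4) = 1 := by
        have : x4 ^ 4 = 1 := ho ▸ pow_orderOf_eq_one x4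
        rw [← this]; simp [pow_succ, mul_assoc]
      have htr : x4.1.trace = 0 := by
        refine trace_zero_of_sq h2 ?_
        exact (CfsgLib.Linear.SL2_eq_one_or_neg_one_of_sq_eq_one h2 _ hsq2).resolve_left
          fun h => hsq (Subtype.ext h)
      have hx4Q : x4 ∈ Q := pow_mem hxQ _
      obtain ⟨t, ht, htQ⟩ := key x4 hx4Q htr
      refine ⟨t, ?_, htQ⟩
      obtain ⟨hcyc, -⟩ := centralizer_trace_zero h2 htr
      haveI := hcyc
      let _ : CommGroup (Subgroup.centralizer ({x4} : Set SL(2, F))) := IsCyclic.commGroup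
      exact congrArg Subtype.val (mul_comm
        (⟨t, Subgroup.mem_centralizer_singleton_iff.2 ht⟩ : Subgroup.centralizer ({x4} : Set SL(2, F)))
        ⟨x, Subgroup.mem_centralizer_singleton_iff.2 ((Commute.refl x).pow_right _).eq⟩)
  refine ⟨t • Q, htQ, ?_⟩
  rw [CfsgLib.Transfer.mem_sylow_smul_iff, mul_assoc, ← htx, inv_mul_cancel_left]
  exact hxQ

/-- The upper unitriangular matrices. -/
def uni : Multiplicative F →* SL(2, F) :=
    { toFun := fun x => CfsgLib.SL2Trace.mk2 1 x.toAdd 0 1 (by ring)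
      map_one' := by
        apply Subtype.ext
        ext i j
        fin_cases i <;> fin_cases j <;> simp [CfsgLib.SL2Trace.coe_mk2]
      map_mul' := fun x y => by
        apply Subtype.ext
        ext i j
        fin_cases i <;> fin_cases j <;>
          simp [CfsgLib.SL2Trace.coe_mk2, mul_apply, Fin.sum_univ_two, add_comm] }

omit [Fintype F] in
theorem coe_uni (x : Multiplicative F) : (uni x).1 = !![1, x.toAdd; 0, 1] := rfl

theorem not_hasRedundant_char (p : ℕ) [Fact p.Prime] [CharP F p] : ¬ HasRedundant p SL(2, F) := by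
  obtain ⟨n, -, hn⟩ := FiniteField.card F p
  set f : Multiplicative F →* SL(2, F) := uni with hf
  have hfp : IsPGroup p f.range :=
    (IsPGroup.of_card (p := p) (G := Multiplicative F) (n := n) (by
      rw [Nat.card_eq_fintype_card, Fintype.card_multiplicative, hn])).of_surjective
      f.rangeRestrict f.rangeRestrict_surjective
  obtain ⟨P₀, hP₀⟩ := hfp.exists_le_sylow
  set x := f (Multiplicative.ofAdd 1) with hx
  have hxP : x ∈ P₀ := hP₀ ⟨_, rfl⟩
  set C := Subgroup.centralizer ({x} : Set SL(2, F)) with hC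
  have hCe : ∀ g ∈ C, g.1 1 0 = 0 ∧ g.1 0 0 = g.1 1 1 := by
    intro g hg
    have h := Subgroup.mem_centralizer_singleton_iff.1 hg
    have e00 := CfsgLib.Linear.SL2_entry_congr h 0 0
    have e01 := CfsgLib.Linear.SL2_entry_congr h 0 1
    simp [hx, hf, coe_uni, mul_apply, Fin.sum_univ_two] at e00 e01
    exact ⟨e00, add_right_cancel (b := g.1 0 1) (by linear_combination e01)⟩
  have hCc : ∀ g ∈ C, ∀ h ∈ C, g * h = h * g := by
    intro g hg h hh
    obtain ⟨g1, g2⟩ := hCe g hg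
    obtain ⟨h1, h2⟩ := hCe h hh
    apply Subtype.ext
    ext i j
    fin_cases i <;> fin_cases j <;>
      simp [mul_apply, Fin.sum_univ_two, g1, g2, h1, h2] <;> ring
  have hcomm : ∀ P : Sylow p SL(2, F), ∀ a ∈ P, ∀ b ∈ P, a * b = b * a := by
    intro P
    have hcard : Nat.card f.range = Fintype.card F := by
      rw [← Nat.card_eq_fintype_card]
      refine Nat.card_congr ((MonoidHom.ofInjective (f := f) fun a b h => ?_).toEquiv.symm.trans
        Multiplicative.toAdd)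
      have := CfsgLib.Linear.SL2_entry_congr h 0 1
      simpa [hf, coe_uni] using this
    have hG : Nat.card SL(2, F) = p ^ (n : ℕ) * (Fintype.card F ^ 2 - 1) := by
      rw [CfsgLib.Linear.card_SL_two, hn]
    have hnd : ¬ p ∣ Fintype.card F ^ 2 - 1 := by
      intro h
      have h1 : p ∣ Fintype.card F ^ 2 := dvd_pow (hn ▸ dvd_pow_self p n.2.ne') two_ne_zero
      have h2 := Nat.dvd_sub h1 h
      rw [Nat.sub_sub_self (Nat.one_le_pow _ _ Fintype.card_pos)] at h2
      exact (Fact.out : p.Prime).one_lt.ne' (Nat.dvd_one.1 h2)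
    have hP₀c := CfsgLib.Linear.card_sylow_of_card_eq hG hnd P₀
    have hP₀f : f.range = (P₀ : Subgroup SL(2, F)) :=
      Subgroup.eq_of_le_of_card_ge hP₀ (by rw [hP₀c, hcard, hn])
    obtain ⟨g, rfl⟩ := MulAction.exists_smul_eq SL(2, F) P₀ P
    intro a ha b hb
    rw [CfsgLib.Transfer.mem_sylow_smul_iff] at ha hb
    replace ha : g⁻¹ * a * g ∈ (P₀ : Subgroup SL(2, F)) := ha
    replace hb : g⁻¹ * b * g ∈ (P₀ : Subgroup SL(2, F)) := hb
    rw [← hP₀f] at ha hb
    obtain ⟨a', ha'⟩ := ha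
    obtain ⟨b', hb'⟩ := hb
    have : f a' * f b' = f b' * f a' := by rw [← map_mul, ← map_mul, mul_comm]
    rw [ha', hb'] at this
    calc a * b = g * ((g⁻¹ * a * g) * (g⁻¹ * b * g)) * g⁻¹ := by group
      _ = g * ((g⁻¹ * b * g) * (g⁻¹ * a * g)) * g⁻¹ := by rw [this]
      _ = b * a := by group
  refine not_hasRedundant_of_unique P₀ hxP fun P hP => ?_
  have hle : ∀ Q : Sylow p SL(2, F), x ∈ Q → (Q : Subgroup SL(2, F)) ≤ C := fun Q hQ y hy =>
    Subgroup.mem_centralizer_singleton_iff.2 (hcomm Q y hy x hQ)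
  refine Sylow.ext ((P.is_maximal' P₀.isPGroup' fun y hy => ?_).symm)
  have hyn : y ∈ Subgroup.normalizer ((P₀ : Subgroup SL(2, F)) : Set SL(2, F)) :=
    Subgroup.centralizer_le_normalizer _ (Subgroup.mem_centralizer_iff.2 fun z hz =>
      hCc z (hle P₀ hxP hz) y (hle P hP hy))
  have hpy : IsPGroup p (Subgroup.zpowers y) := P.isPGroup'.to_le (Subgroup.zpowers_le.2 hy)
  have := P₀.is_maximal' (IsPGroup.to_sup_of_normal_right' hpy P₀.isPGroup'
    (Subgroup.zpowers_le.2 hyn)) le_sup_right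
  rw [← this]
  exact Subgroup.mem_sup_left (Subgroup.mem_zpowers y)

/-- Redundant Sylow subgroups of `SL₂(q)`. -/
theorem hasRedundant_SL_two_iff (p : ℕ) [Fact p.Prime] :
    HasRedundant p SL(2, F) ↔
      (p = 2 ∧ (¬ ∃ k : ℕ, Fintype.card F + 1 = 2 ^ k) ∧ (¬ ∃ k : ℕ, Fintype.card F = 2 ^ k) ∧
        ¬ ∃ k : ℕ, Fintype.card F = 2 ^ k + 1) := by
  obtain ⟨r, hr⟩ := CharP.exists F
  haveI : Fact r.Prime := ⟨CharP.char_is_prime F r⟩
  by_cases hpr : p = r
  · subst hpr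
    refine iff_of_false (not_hasRedundant_char p) ?_
    rintro ⟨rfl, -, h, -⟩
    obtain ⟨n, -, hn⟩ := FiniteField.card F 2
    exact h ⟨n, hn⟩
  by_cases hp2 : p = 2
  · subst hp2
    have h2 : (2 : F) ≠ 0 := fun h => hpr ((Nat.prime_dvd_prime_iff_eq (Fact.out : r.Prime)
      Nat.prime_two).1 ((CharP.cast_eq_zero_iff F r 2).1 (by exact_mod_cast h))).symm
    have hq := odd_card (F := F) h2
    have hno : ¬ ∃ k : ℕ, Fintype.card F = 2 ^ k := by
      rintro ⟨k, hk⟩
      rcases k with _ | k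
      · exact (Fintype.one_lt_card (α := F)).ne' (by simpa using hk)
      · rw [pow_succ] at hk; omega
    by_cases hk : ∃ k, c₀ = 2 ^ k
    · refine iff_of_false (not_hasRedundant_of_pow h2 hk) ?_
      rintro ⟨-, h1, -, h3⟩
      exact ((c₀_pow_two_iff h2).1 hk).elim h1 h3
    · refine iff_of_true (hasRedundant_of_not_pow h2 hk) ⟨rfl, ?_, hno, ?_⟩
      · exact fun h => hk ((c₀_pow_two_iff h2).2 (Or.inl h))
      · exact fun h => hk ((c₀_pow_two_iff h2).2 (Or.inr h))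
  · refine iff_of_false ?_ fun h => hp2 h.1
    obtain ⟨P⟩ : Nonempty (Sylow p SL(2, F)) := inferInstance
    haveI := CfsgLib.Linear.isCyclic_sylow_SL2 r p hp2 hpr P
    exact not_hasRedundant_of_isCyclic P

end CfsgLib.Redundant
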